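import Mathlib
import Groth.Prelude.Def_VecGrp

/-!
# Local finiteness of `G`-modules over a Noetherian base: the algebraic core (helper8)

`G` a group object of `Over (Spec R)`, `m : VecGrp.GMod G E`.  Given a finite family of flat
`R`-algebras `A i` with points `pts i : Spec (A i) ⟶ G` through which every affine point of `G`
factors Zariski-locally (`Cov`), every finitely generated submodule of `E` is contained in a finitely
generated `G`-stable submodule (`main_alg`), `R` Noetherian.  (Serre's trick: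
`N = {x | ∀ i, ρ(pts i)(1 ⊗ x) ∈ A i ⊗ F}`.)
-/

set_option autoImplicit false
universe u
open CategoryTheory MonObj GrpObj AlgebraicGeometry
open scoped TensorProduct

namespace Groth.Agent.H8.LocFin

section Modules

variable {R : Type u} [CommRing R] {E : Type u} [AddCommGroup E] [Module R E]

theorem mem_range_iff (P : Submodule R E) (B : Type u) [CommRing B] [Algebra R B]
    (y : B ⊗[R] E) :
    y ∈ LinearMap.range (P.subtype.baseChange B) ↔ P.mkQ.baseChange B y = 0 := by
  have hex : Function.Exact (P.subtype.lTensor B) (P.mkQ.lTensor B) :=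
    lTensor_exact B (LinearMap.exact_subtype_mkQ P) (Submodule.mkQ_surjective P)
  exact (hex y).symm

theorem range_lTensor_mono {P P' : Submodule R E} (h : P ≤ P') (B : Type u) [CommRing B]
    [Algebra R B] :
    LinearMap.range (P.subtype.lTensor B) ≤ LinearMap.range (P'.subtype.lTensor B) := by
  rintro _ ⟨w, rfl⟩
  refine ⟨(Submodule.inclusion h).lTensor B w, ?_⟩
  rw [← LinearMap.comp_apply, ← LinearMap.lTensor_comp, Submodule.subtype_comp_inclusion]

theorem rTensor_eq_Wmap (Q : Type u) [AddCommGroup Q] [Module R Q] {B : Type u} [CommRing B]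
    [Algebra R B] (b : B) (z : B ⊗[R] Q) :
    TensorProduct.AlgebraTensorModule.rTensor R Q (Algebra.linearMap B (Localization.Away b)) z =
      VecGrp.Wmap (M := Q) (IsScalarTower.toAlgHom R B (Localization.Away b)) z := by
  induction z using TensorProduct.induction_on with
  | zero => simp
  | tmul c q => rfl
  | add z w hz hw => simp only [map_add, hz, hw]

theorem eq_zero_of_local (Q : Type u) [AddCommGroup Q] [Module R Q] {B : Type u} [CommRing B]
    [Algebra R B] (s : Set B) (hs : Ideal.span s = ⊤) (y : B ⊗[R] Q)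
    (h : ∀ b ∈ s, VecGrp.Wmap (M := Q) (IsScalarTower.toAlgHom R B (Localization.Away b)) y = 0) :
    y = 0 := by
  have h1 := Submodule.mem_of_span_eq_top_of_smul_pow_mem (⊥ : Submodule B (B ⊗[R] Q)) s hs y ?_
  · simpa using h1
  rintro ⟨b, hb⟩
  have h0 : TensorProduct.AlgebraTensorModule.rTensor R Q
      (Algebra.linearMap B (Localization.Away b)) y = 0 := by
    rw [rTensor_eq_Wmap]
    exact h b hb
  obtain ⟨⟨_, n, rfl⟩, hn⟩ := (IsLocalizedModule.eq_zero_iff (Submonoid.powers b)
    (TensorProduct.AlgebraTensorModule.rTensor R Q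
      (Algebra.linearMap B (Localization.Away b)))).mp h0
  exact ⟨n, hn⟩

theorem flat_ker {A : Type u} [CommRing A] [Algebra R A] [Module.Flat R A] {I : Type u}
    [Fintype I] {Q : I → Type u} [∀ i, AddCommGroup (Q i)] [∀ i, Module R (Q i)]
    (δ : ∀ i, E →ₗ[R] Q i) (y : A ⊗[R] E) (h : ∀ i, (δ i).lTensor A y = 0) :
    y ∈ LinearMap.range ((LinearMap.ker (LinearMap.pi δ)).subtype.lTensor A) := by
  classical
  have hex : Function.Exact ((LinearMap.ker (LinearMap.pi δ)).subtype) (LinearMap.pi δ) :=
    LinearMap.exact_subtype_ker_map _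
  have hex2 := Module.Flat.lTensor_exact A hex
  have h0 : (LinearMap.pi δ).lTensor A y = 0 := by
    apply (TensorProduct.piRight R R A Q).injective
    rw [map_zero]
    funext i
    have h2 : ∀ z : A ⊗[R] E,
        (TensorProduct.piRight R R A Q) ((LinearMap.pi δ).lTensor A z) i = (δ i).lTensor A z := by
      intro z
      induction z using TensorProduct.induction_on with
      | zero => simp
      | tmul a e => simp
      | add z w hz hw => simp only [map_add, Pi.add_apply, hz, hw]
    rw [h2, h i]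
    rfl
  exact (hex2 y).mp h0

/-- naturality of the associator in the last variable, against base change. -/
theorem baseChange_assoc_symm {A₁ A₂ : Type u} [CommRing A₁] [Algebra R A₁] [CommRing A₂]
    [Algebra R A₂] {Q : Type u} [AddCommGroup Q] [Module R Q] (f : E →ₗ[R] Q)
    (w : A₁ ⊗[R] (A₂ ⊗[R] E)) :
    f.baseChange (A₁ ⊗[R] A₂) ((TensorProduct.assoc R A₁ A₂ E).symm w) =
      (TensorProduct.assoc R A₁ A₂ Q).symm
        (((f.baseChange A₂).restrictScalars R).lTensor A₁ w) := by
  induction w using TensorProduct.induction_on with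
  | zero => simp
  | add w w' hw hw' => simp only [map_add, hw, hw']
  | tmul a z =>
    induction z using TensorProduct.induction_on with
    | zero => simp
    | add z z' hz hz' => simp only [TensorProduct.tmul_add, map_add, hz, hz']
    | tmul a' e => rfl

end Modules

section GMod

variable {R : Type u} [CommRing R] {G : Over (Spec (CommRingCat.of R))} [GrpObj G]
  {E : Type u} [AddCommGroup E] [Module R E] (m : VecGrp.GMod G E)

/-- the coaction at a point `g`: `x ↦ ρ(g)(1 ⊗ x)`. -/
noncomputable def coact (B : Type u) [CommRing B] [Algebra R B] (g : VecGrp.pt R B ⟶ G) :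
    E →ₗ[R] B ⊗[R] E :=
  ((m.ρ B g).toLinearMap.restrictScalars R) ∘ₗ (TensorProduct.mk R B E 1)

theorem coact_apply (B : Type u) [CommRing B] [Algebra R B] (g : VecGrp.pt R B ⟶ G) (x : E) :
    coact m B g x = m.ρ B g ((1 : B) ⊗ₜ[R] x) := rfl

theorem coact_nat {B B' : Type u} [CommRing B] [Algebra R B] [CommRing B'] [Algebra R B']
    (φ : B →ₐ[R] B') (g : VecGrp.pt R B ⟶ G) (x : E) :
    VecGrp.Wmap φ (coact m B g x) = coact m B' (VecGrp.ptMap φ ≫ g) x := by
  rw [coact_apply, coact_apply, m.naturality φ g, VecGrp.Wmap_tmul, map_one]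

theorem coact_one (B : Type u) [CommRing B] [Algebra R B] (x : E) :
    coact m B 1 x = (1 : B) ⊗ₜ[R] x := by
  rw [coact_apply, map_one]
  rfl

theorem coact_mul (B : Type u) [CommRing B] [Algebra R B] (g h : VecGrp.pt R B ⟶ G) (x : E) :
    coact m B (g * h) x = m.ρ B g (coact m B h x) := by
  rw [coact_apply, map_mul]
  rfl

theorem mem_of_good (P : Submodule R E) (x : E)
    (h : P.mkQ.baseChange R (coact m R 1 x) = 0) : x ∈ P := by
  rw [coact_one, LinearMap.baseChange_tmul] at h
  have h2 := congrArg (TensorProduct.lid R (E ⧸ P)) h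
  rw [TensorProduct.lid_tmul, one_smul, map_zero] at h2
  exact (Submodule.Quotient.mk_eq_zero P).mp h2

variable {I : Type u} (A : I → Type u) [∀ i, CommRing (A i)] [∀ i, Algebra R (A i)]
  (pts : ∀ i, VecGrp.pt R (A i) ⟶ G)

/-- every affine point of `G` factors Zariski-locally through one of the `pts i`. -/
def Cov : Prop :=
  ∀ (B : Type u) [CommRing B] [Algebra R B] (g : VecGrp.pt R B ⟶ G),
    ∃ s : Set B, Ideal.span s = ⊤ ∧ ∀ b ∈ s, ∃ (i : I) (ε : A i →ₐ[R] Localization.Away b),
      VecGrp.ptMap ε ≫ pts i =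
        VecGrp.ptMap (IsScalarTower.toAlgHom R B (Localization.Away b)) ≫ g

variable {A pts}

theorem good_of_cover (hcov : Cov A pts) (P : Submodule R E) (x : E)
    (h : ∀ i, P.mkQ.baseChange (A i) (coact m (A i) (pts i) x) = 0)
    (B : Type u) [CommRing B] [Algebra R B] (g : VecGrp.pt R B ⟶ G) :
    P.mkQ.baseChange B (coact m B g x) = 0 := by
  obtain ⟨s, hs, hε⟩ := hcov B g
  apply eq_zero_of_local (E ⧸ P) s hs
  intro b hb
  obtain ⟨i, ε, hpt⟩ := hε b hb
  rw [VecGrp.baseChange_natural, coact_nat, ← hpt, ← coact_nat, ← VecGrp.baseChange_natural,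
    h i, map_zero]

variable (A pts)

/-- `x ↦` the class of `ρ(pts i)(1 ⊗ x)` in `A i ⊗ (E ⧸ P)`. -/
noncomputable def delta (P : Submodule R E) (i : I) : E →ₗ[R] (A i) ⊗[R] (E ⧸ P) :=
  ((P.mkQ.baseChange (A i)).restrictScalars R) ∘ₗ coact m (A i) (pts i)

/-- Serre's submodule `P° = {x | ∀ i, ρ(pts i)(1 ⊗ x) ∈ A i ⊗ P}`. -/
noncomputable def Nsub (P : Submodule R E) : Submodule R E :=
  LinearMap.ker (LinearMap.pi (delta m A pts P))

theorem mem_Nsub_iff (P : Submodule R E) (x : E) :
    x ∈ Nsub m A pts P ↔ ∀ i, P.mkQ.baseChange (A i) (coact m (A i) (pts i) x) = 0 := by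
  rw [Nsub, LinearMap.mem_ker]
  constructor
  · intro h i
    exact congrFun h i
  · intro h
    funext i
    exact h i

variable {A pts}

theorem Nsub_le (hcov : Cov A pts) (P : Submodule R E) : Nsub m A pts P ≤ P := by
  intro x hx
  rw [mem_Nsub_iff] at hx
  exact mem_of_good m P x (good_of_cover m hcov P x hx R 1)

/-- the iterated coaction through the tensor product of two of the algebras. -/
theorem assoc_coact (i j : I) (y : A i ⊗[R] E) :
    (TensorProduct.assoc R (A i) (A j) E).symm ((coact m (A j) (pts j)).lTensor (A i) y) =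
      m.ρ (A i ⊗[R] A j) (VecGrp.ptMap Algebra.TensorProduct.includeRight ≫ pts j)
        (VecGrp.Wmap (Algebra.TensorProduct.includeLeft : A i →ₐ[R] A i ⊗[R] A j) y) := by
  have aux : ∀ (a : A i) (z : A j ⊗[R] E),
      (TensorProduct.assoc R (A i) (A j) E).symm (a ⊗ₜ[R] z) =
        (a ⊗ₜ[R] (1 : A j) : A i ⊗[R] A j) •
          VecGrp.Wmap (Algebra.TensorProduct.includeRight : A j →ₐ[R] A i ⊗[R] A j) z := by
    intro a z
    induction z using TensorProduct.induction_on with
    | zero => simp
    | add z z' hz hz' => simp only [TensorProduct.tmul_add, map_add, smul_add, hz, hz']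
    | tmul a' e =>
      rw [TensorProduct.assoc_symm_tmul, VecGrp.Wmap_tmul, Algebra.TensorProduct.includeRight_apply,
        TensorProduct.smul_tmul', smul_eq_mul, Algebra.TensorProduct.tmul_mul_tmul, _root_.mul_one,
        _root_.one_mul]
  induction y using TensorProduct.induction_on with
  | zero => simp
  | add y y' hy hy' => simp only [map_add, hy, hy']
  | tmul a e =>
    rw [LinearMap.lTensor_tmul, aux, coact_nat, VecGrp.Wmap_tmul,
      Algebra.TensorProduct.includeLeft_apply]
    have h1 : ((a ⊗ₜ[R] (1 : A j) : A i ⊗[R] A j) ⊗ₜ[R] e : (A i ⊗[R] A j) ⊗[R] E) =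
        (a ⊗ₜ[R] (1 : A j) : A i ⊗[R] A j) • ((1 : A i ⊗[R] A j) ⊗ₜ[R] e) := by
      rw [TensorProduct.smul_tmul', smul_eq_mul, _root_.mul_one]
    rw [h1, map_smul]
    rfl

theorem key [∀ i, Module.Flat R (A i)] (hcov : Cov A pts) (P : Submodule R E) (x : E)
    (hx : x ∈ Nsub m A pts P) (i j : I) :
    (delta m A pts P j).lTensor (A i) (coact m (A i) (pts i) x) = 0 := by
  rw [mem_Nsub_iff] at hx
  apply (TensorProduct.assoc R (A i) (A j) (E ⧸ P)).symm.injective
  rw [map_zero]
  have h1 : (delta m A pts P j).lTensor (A i) (coact m (A i) (pts i) x) =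
      ((P.mkQ.baseChange (A j)).restrictScalars R).lTensor (A i)
        ((coact m (A j) (pts j)).lTensor (A i) (coact m (A i) (pts i) x)) := by
    rw [delta, LinearMap.lTensor_comp]
    rfl
  rw [h1, ← baseChange_assoc_symm, assoc_coact, coact_nat, ← coact_mul]
  exact good_of_cover m hcov P x hx _ _

theorem Nsub_stable [Fintype I] [∀ i, Module.Flat R (A i)] (hcov : Cov A pts)
    (P : Submodule R E) (x : E) (hx : x ∈ Nsub m A pts P)
    (B : Type u) [CommRing B] [Algebra R B] (g : VecGrp.pt R B ⟶ G) :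
    (Nsub m A pts P).mkQ.baseChange B (coact m B g x) = 0 := by
  apply good_of_cover m hcov (Nsub m A pts P) x
  intro i
  rw [← mem_range_iff]
  exact flat_ker (delta m A pts P) (coact m (A i) (pts i) x) (fun j => key m hcov P x hx i j)

theorem exists_F [Fintype I] (M : Submodule R E) (hM : M.FG) :
    ∃ F : Submodule R E, F.FG ∧ ∀ i, ∀ x ∈ M,
      F.mkQ.baseChange (A i) (coact m (A i) (pts i) x) = 0 := by
  obtain ⟨S, hS⟩ := hM
  have h1 : ∀ i : I, ∃ F : Submodule R E, F.FG ∧ ∀ e ∈ S,
      coact m (A i) (pts i) e ∈ LinearMap.range (F.subtype.lTensor (A i)) := by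
    intro i
    obtain ⟨F, hF, hsub⟩ := TensorProduct.exists_finite_submodule_right_of_setFinite
      ((coact m (A i) (pts i)) '' (S : Set E)) (S.finite_toSet.image _)
    exact ⟨F, Module.Finite.iff_fg.mp hF, fun e he => hsub ⟨e, he, rfl⟩⟩
  choose F hF hFS using h1
  refine ⟨⨆ i, F i, Submodule.fg_iSup F hF, ?_⟩
  intro i
  have h2 : M ≤ LinearMap.ker (delta m A pts (⨆ i, F i) i) := by
    rw [← hS, Submodule.span_le]
    intro e he
    rw [SetLike.mem_coe, LinearMap.mem_ker]
    show (⨆ i, F i).mkQ.baseChange (A i) (coact m (A i) (pts i) e) = 0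
    rw [← mem_range_iff]
    exact range_lTensor_mono (le_iSup F i) (A i) (hFS i e he)
  intro x hx
  exact LinearMap.mem_ker.mp (h2 hx)

theorem main_alg [Fintype I] [IsNoetherianRing R] [∀ i, Module.Flat R (A i)] (hcov : Cov A pts)
    (M : Submodule R E) (hM : M.FG) :
    ∃ N : Submodule R E, M ≤ N ∧ N.FG ∧
      ∀ (B : Type u) [CommRing B] [Algebra R B] (g : VecGrp.pt R B ⟶ G) (x : E), x ∈ N →
        m.ρ B g ((1 : B) ⊗ₜ[R] x) ∈ LinearMap.range (N.subtype.baseChange B) := by
  obtain ⟨F, hF, hFM⟩ := exists_F m (A := A) (pts := pts) M hM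
  refine ⟨Nsub m A pts F, ?_, hF.of_le (Nsub_le m hcov F), ?_⟩
  · intro x hx
    rw [mem_Nsub_iff]
    exact fun i => hFM i x hx
  · intro B _ _ g x hx
    rw [mem_range_iff]
    exact Nsub_stable m hcov F x hx B g

end GMod

end Groth.Agent.H8.LocFin
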