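import Groth.Agent.Lib.Helper8.LocFin.Alg

/-!
# Local finiteness of flat `G`-modules when the global functions of `G` are projective:
the algebraic core (helper8)

Abstract data: an `R`-algebra `Γ` (the global functions of `G`) with pull-back maps
`gs B g : Γ →ₐ[R] B` along the affine points of `G`, such that natural families with values in
`B ⊗ F` (`F` flat) glue uniquely to elements of `Γ ⊗ F` (`GsGlue`, `GsUniq`).  If `Γ` is projective
and `E` is flat, every finitely generated submodule of a `G`-module `E` lies in a finitely generated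
`G`-stable submodule (`main_alg2`): `N` is spanned by the coefficients `(φ ⊗ id)(Δ m)` of the
coaction `Δ : E → Γ ⊗ E` with respect to a dual basis of `Γ`.
-/

set_option autoImplicit false
universe u
open CategoryTheory MonObj GrpObj AlgebraicGeometry
open scoped TensorProduct

namespace Groth.Agent.H8.LocFin

section Tensor

variable {R : Type u} [CommRing R] {Γ : Type u} [AddCommGroup Γ] [Module R Γ]

/-- evaluation of the first factor by a linear form -/
noncomputable def ev (φ : Γ →ₗ[R] R) (Q : Type u) [AddCommGroup Q] [Module R Q] :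
    Γ ⊗[R] Q →ₗ[R] Q :=
  (TensorProduct.lid R Q).toLinearMap ∘ₗ φ.rTensor Q

theorem ev_tmul (φ : Γ →ₗ[R] R) (Q : Type u) [AddCommGroup Q] [Module R Q] (c : Γ) (q : Q) :
    ev φ Q (c ⊗ₜ[R] q) = φ c • q := by
  simp [ev]

theorem ev_lTensor (φ : Γ →ₗ[R] R) {Q Q' : Type u} [AddCommGroup Q] [Module R Q]
    [AddCommGroup Q'] [Module R Q'] (L : Q →ₗ[R] Q') (z : Γ ⊗[R] Q) :
    L (ev φ Q z) = ev φ Q' (L.lTensor Γ z) := by
  induction z using TensorProduct.induction_on with
  | zero => simp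
  | tmul c q => rw [ev_tmul, LinearMap.lTensor_tmul, ev_tmul, map_smul]
  | add z w hz hw => simp only [map_add, hz, hw]

theorem ev_assoc (φ : Γ →ₗ[R] R) {A E : Type u} [AddCommGroup A] [Module R A]
    [AddCommGroup E] [Module R E] (w : Γ ⊗[R] A) (n : E) :
    ev φ (A ⊗[R] E) (TensorProduct.assoc R Γ A E (w ⊗ₜ[R] n)) = (ev φ A w) ⊗ₜ[R] n := by
  induction w using TensorProduct.induction_on with
  | zero => simp
  | tmul c a =>
    rw [TensorProduct.assoc_tmul, ev_tmul, ev_tmul, TensorProduct.smul_tmul']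
  | add w w' hw hw' => simp only [TensorProduct.add_tmul, map_add, hw, hw']

theorem content (s : Γ →ₗ[R] (Γ →₀ R)) (hs : Finsupp.linearCombination R id ∘ₗ s = LinearMap.id)
    (Q : Type u) [AddCommGroup Q] [Module R Q] (z : Γ ⊗[R] Q) :
    ∃ T₀ : Finset Γ, ∀ T : Finset Γ, T₀ ⊆ T →
      z = ∑ t ∈ T, t ⊗ₜ[R] ev ((Finsupp.lapply t) ∘ₗ s) Q z := by
  classical
  induction z using TensorProduct.induction_on with
  | zero => exact ⟨∅, fun T _ => by simp⟩
  | tmul c q =>
    refine ⟨(s c).support, fun T hT => ?_⟩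
    have h1 : c = ∑ t ∈ T, (s c) t • t := by
      have h2 := congrArg (fun f => f c) hs
      simp only [LinearMap.comp_apply, LinearMap.id_apply] at h2
      rw [Finsupp.linearCombination_apply, Finsupp.sum_of_support_subset _ hT _ (by simp)] at h2
      exact h2.symm
    conv_lhs => rw [h1]
    rw [TensorProduct.sum_tmul]
    refine Finset.sum_congr rfl fun t _ => ?_
    rw [ev_tmul, LinearMap.comp_apply, Finsupp.lapply_apply, TensorProduct.tmul_smul,
      TensorProduct.smul_tmul']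
  | add z w hz hw =>
    obtain ⟨T₁, h₁⟩ := hz
    obtain ⟨T₂, h₂⟩ := hw
    refine ⟨T₁ ∪ T₂, fun T hT => ?_⟩
    have e₁ := h₁ T (Finset.union_subset_left hT)
    have e₂ := h₂ T (Finset.union_subset_right hT)
    conv_lhs => rw [e₁, e₂]
    rw [← Finset.sum_add_distrib]
    refine Finset.sum_congr rfl fun t _ => ?_
    rw [map_add, TensorProduct.tmul_add]


theorem Wmap_lTensor {Γ' B : Type u} [CommRing Γ'] [Algebra R Γ'] [CommRing B] [Algebra R B]
    (ψ : Γ' →ₐ[R] B) {Q Q' : Type u} [AddCommGroup Q] [Module R Q] [AddCommGroup Q'] [Module R Q']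
    (L : Q →ₗ[R] Q') (z : Γ' ⊗[R] Q) :
    VecGrp.Wmap (M := Q') ψ (L.lTensor Γ' z) = L.lTensor B (VecGrp.Wmap (M := Q) ψ z) := by
  induction z using TensorProduct.induction_on with
  | zero => simp
  | tmul c q => rfl
  | add z w hz hw => simp only [map_add, hz, hw]

theorem Wmap_assoc {Γ' B : Type u} [CommRing Γ'] [Algebra R Γ'] [CommRing B] [Algebra R B]
    (ψ : Γ' →ₐ[R] B) {A E : Type u} [AddCommGroup A] [Module R A] [AddCommGroup E] [Module R E]
    (w : Γ' ⊗[R] A) (n : E) :
    (TensorProduct.assoc R B A E).symm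
        (VecGrp.Wmap (M := A ⊗[R] E) ψ (TensorProduct.assoc R Γ' A E (w ⊗ₜ[R] n))) =
      (VecGrp.Wmap (M := A) ψ w) ⊗ₜ[R] n := by
  induction w using TensorProduct.induction_on with
  | zero => simp
  | tmul c a => rfl
  | add w w' hw hw' => simp only [TensorProduct.add_tmul, map_add, hw, hw']

end Tensor

section Core

variable {R : Type u} [CommRing R] {G : Over (Spec (CommRingCat.of R))} [GrpObj G]
  {E : Type u} [AddCommGroup E] [Module R E] (m : VecGrp.GMod G E)

/-- a natural family of elements of `B ⊗ F` on the affine points of `G`. -/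
structure NatFam (G : Over (Spec (CommRingCat.of R))) (F : Type u) [AddCommGroup F]
    [Module R F] where
  /-- the value at a point -/
  c : ∀ (B : Type u) [CommRing B] [Algebra R B], (VecGrp.pt R B ⟶ G) → B ⊗[R] F
  /-- naturality -/
  nat : ∀ {B B' : Type u} [CommRing B] [Algebra R B] [CommRing B'] [Algebra R B']
    (φ : B →ₐ[R] B') (g : VecGrp.pt R B ⟶ G),
    VecGrp.Wmap (M := F) φ (c B g) = c B' (VecGrp.ptMap φ ≫ g)

/-- the coaction family of `x`. -/
noncomputable def coactFam (x : E) : NatFam G E where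
  c B _ _ g := coact m B g x
  nat φ g := coact_nat m φ g x

theorem ptMap_comp {B B' B'' : Type u} [CommRing B] [Algebra R B] [CommRing B'] [Algebra R B']
    [CommRing B''] [Algebra R B''] (φ : B →ₐ[R] B') (ψ : B' →ₐ[R] B'') :
    VecGrp.ptMap (ψ.comp φ) = VecGrp.ptMap ψ ≫ VecGrp.ptMap φ := by
  apply Over.OverMorphism.ext
  show Spec.map (CommRingCat.ofHom (ψ.comp φ).toRingHom) =
    Spec.map (CommRingCat.ofHom ψ.toRingHom) ≫ Spec.map (CommRingCat.ofHom φ.toRingHom)
  rw [← Spec.map_comp]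
  rfl

/-- the iterated coaction through the tensor product of two algebras, general form. -/
theorem assoc_coact_gen {B₁ B₂ : Type u} [CommRing B₁] [Algebra R B₁] [CommRing B₂] [Algebra R B₂]
    (h₂ : VecGrp.pt R B₂ ⟶ G) (y : B₁ ⊗[R] E) :
    (TensorProduct.assoc R B₁ B₂ E).symm ((coact m B₂ h₂).lTensor B₁ y) =
      m.ρ (B₁ ⊗[R] B₂) (VecGrp.ptMap Algebra.TensorProduct.includeRight ≫ h₂)
        (VecGrp.Wmap (Algebra.TensorProduct.includeLeft : B₁ →ₐ[R] B₁ ⊗[R] B₂) y) := by
  have aux : ∀ (a : B₁) (z : B₂ ⊗[R] E),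
      (TensorProduct.assoc R B₁ B₂ E).symm (a ⊗ₜ[R] z) =
        (a ⊗ₜ[R] (1 : B₂) : B₁ ⊗[R] B₂) •
          VecGrp.Wmap (Algebra.TensorProduct.includeRight : B₂ →ₐ[R] B₁ ⊗[R] B₂) z := by
    intro a z
    induction z using TensorProduct.induction_on with
    | zero => simp
    | add z z' hz hz' => simp only [TensorProduct.tmul_add, map_add, smul_add, hz, hz']
    | tmul a' e =>
      rw [TensorProduct.assoc_symm_tmul, VecGrp.Wmap_tmul, Algebra.TensorProduct.includeRight_apply,
        TensorProduct.smul_tmul', smul_eq_mul, Algebra.TensorProduct.tmul_mul_tmul, _root_.mul_one,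
        _root_.one_mul]
  induction y using TensorProduct.induction_on with
  | zero => simp
  | add y y' hy hy' => simp only [map_add, hy, hy']
  | tmul a e =>
    rw [LinearMap.lTensor_tmul, aux, coact_nat, VecGrp.Wmap_tmul,
      Algebra.TensorProduct.includeLeft_apply]
    have h1 : ((a ⊗ₜ[R] (1 : B₂) : B₁ ⊗[R] B₂) ⊗ₜ[R] e : (B₁ ⊗[R] B₂) ⊗[R] E) =
        (a ⊗ₜ[R] (1 : B₂) : B₁ ⊗[R] B₂) • ((1 : B₁ ⊗[R] B₂) ⊗ₜ[R] e) := by
      rw [TensorProduct.smul_tmul', smul_eq_mul, _root_.mul_one]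
    rw [h1, map_smul]
    rfl

theorem assoc_coact' {B₁ B₂ : Type u} [CommRing B₁] [Algebra R B₁] [CommRing B₂] [Algebra R B₂]
    (h₁ : VecGrp.pt R B₁ ⟶ G) (h₂ : VecGrp.pt R B₂ ⟶ G) (x : E) :
    (TensorProduct.assoc R B₁ B₂ E).symm ((coact m B₂ h₂).lTensor B₁ (coact m B₁ h₁ x)) =
      coact m (B₁ ⊗[R] B₂) ((VecGrp.ptMap Algebra.TensorProduct.includeRight ≫ h₂) *
        (VecGrp.ptMap Algebra.TensorProduct.includeLeft ≫ h₁)) x := by
  rw [assoc_coact_gen, coact_nat, ← coact_mul]

variable (Γ : Type u) [CommRing Γ] [Algebra R Γ]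
  (gs : ∀ (B : Type u) [CommRing B] [Algebra R B], (VecGrp.pt R B ⟶ G) → (Γ →ₐ[R] B))

/-- pull-back of functions is natural. -/
def GsNat : Prop :=
  ∀ {B B' : Type u} [CommRing B] [Algebra R B] [CommRing B'] [Algebra R B'] (φ : B →ₐ[R] B')
    (g : VecGrp.pt R B ⟶ G), gs B' (VecGrp.ptMap φ ≫ g) = φ.comp (gs B g)

/-- natural families with flat coefficients glue. -/
def GsGlue : Prop :=
  ∀ (F : Type u) [AddCommGroup F] [Module R F] [Module.Flat R F] (y : NatFam G F),
    ∃ Y : Γ ⊗[R] F, ∀ (B : Type u) [CommRing B] [Algebra R B] (g : VecGrp.pt R B ⟶ G),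
      y.c B g = VecGrp.Wmap (M := F) (gs B g) Y

/-- an element of `Γ ⊗ F`, `F` flat, vanishing at all points is zero. -/
def GsUniq : Prop :=
  ∀ (F : Type u) [AddCommGroup F] [Module R F] [Module.Flat R F] (Y : Γ ⊗[R] F),
    (∀ (B : Type u) [CommRing B] [Algebra R B] (g : VecGrp.pt R B ⟶ G),
      VecGrp.Wmap (M := F) (gs B g) Y = 0) → Y = 0

variable {Γ gs}
variable {I : Type u} {A : I → Type u} [∀ i, CommRing (A i)] [∀ i, Algebra R (A i)]
  (pts : ∀ i, VecGrp.pt R (A i) ⟶ G)

/-- the family `g ↦ (pts j · g)^*(t)` with values in `B ⊗ A j`. -/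
noncomputable def muFam (hnat : GsNat Γ gs) (j : I) (t : Γ) : NatFam G (A j) where
  c B _ _ g := gs (B ⊗[R] A j) ((VecGrp.ptMap Algebra.TensorProduct.includeRight ≫ pts j) *
    (VecGrp.ptMap Algebra.TensorProduct.includeLeft ≫ g)) t
  nat {B B'} _ _ _ _ φ g := by
    have hΦ : ∀ w : B ⊗[R] A j, VecGrp.Wmap (M := A j) φ w =
        Algebra.TensorProduct.map φ (AlgHom.id R (A j)) w := by
      intro w
      induction w using TensorProduct.induction_on with
      | zero => simp
      | tmul b a => rfl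
      | add w w' hw hw' => simp only [map_add, hw, hw']
    have h2 : VecGrp.ptMap (Algebra.TensorProduct.map φ (AlgHom.id R (A j))) ≫
        VecGrp.ptMap Algebra.TensorProduct.includeRight ≫ pts j =
        VecGrp.ptMap Algebra.TensorProduct.includeRight ≫ pts j := by
      rw [← Category.assoc, ← ptMap_comp, Algebra.TensorProduct.map_comp_includeRight,
        AlgHom.comp_id]
    have h1 : VecGrp.ptMap (Algebra.TensorProduct.map φ (AlgHom.id R (A j))) ≫
        VecGrp.ptMap Algebra.TensorProduct.includeLeft ≫ g =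
        VecGrp.ptMap Algebra.TensorProduct.includeLeft ≫ VecGrp.ptMap φ ≫ g := by
      rw [← Category.assoc, ← ptMap_comp, Algebra.TensorProduct.map_comp_includeLeft, ptMap_comp,
        Category.assoc]
    rw [hΦ, ← AlgHom.comp_apply, ← hnat, MonObj.comp_mul, h1, h2]

variable {pts}

theorem main_alg2 [Module.Projective R Γ] [Module.Flat R E] [Fintype I]
    [∀ i, Module.Flat R (A i)] (hcov : Cov A pts) (hnat : GsNat Γ gs) (hglue : GsGlue Γ gs)
    (huniq : GsUniq Γ gs) (M : Submodule R E) (hM : M.FG) :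
    ∃ N : Submodule R E, M ≤ N ∧ N.FG ∧
      ∀ (B : Type u) [CommRing B] [Algebra R B] (g : VecGrp.pt R B ⟶ G) (x : E), x ∈ N →
        m.ρ B g ((1 : B) ⊗ₜ[R] x) ∈ LinearMap.range (N.subtype.baseChange B) := by
  classical
  obtain ⟨s, hs⟩ := Module.projective_def'.mp (inferInstance : Module.Projective R Γ)
  -- the global coaction
  have hΔ : ∀ x : E, ∃ Y : Γ ⊗[R] E, ∀ (B : Type u) [CommRing B] [Algebra R B]
      (g : VecGrp.pt R B ⟶ G), coact m B g x = VecGrp.Wmap (M := E) (gs B g) Y :=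
    fun x => hglue E (coactFam m x)
  choose Dl hDl using hΔ
  obtain ⟨S, hS⟩ := hM
  have hc : ∀ x : E, ∃ T₀ : Finset Γ, ∀ T : Finset Γ, T₀ ⊆ T →
      Dl x = ∑ t ∈ T, t ⊗ₜ[R] ev ((Finsupp.lapply t) ∘ₗ s) E (Dl x) :=
    fun x => content s hs E (Dl x)
  choose T₀ hT₀ using hc
  obtain ⟨Tall, hTall_def⟩ : ∃ Tall : Finset Γ, Tall = S.biUnion T₀ := ⟨_, rfl⟩
  obtain ⟨gen, hgen_def⟩ : ∃ gen : E → Γ → E,
      ∀ x t, gen x t = ev ((Finsupp.lapply t) ∘ₗ s) E (Dl x) := ⟨_, fun _ _ => rfl⟩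
  have hTall : ∀ x ∈ S, Dl x = ∑ t ∈ Tall, t ⊗ₜ[R] gen x t := by
    intro x hx
    have h1 := hT₀ x Tall (by rw [hTall_def]; exact Finset.subset_biUnion_of_mem T₀ hx)
    simp only [← hgen_def] at h1
    exact h1
  obtain ⟨N, hN_def⟩ : ∃ N : Submodule R E, N = Submodule.span R
      ((fun p : E × Γ => gen p.1 p.2) '' ((S ×ˢ Tall : Finset (E × Γ)) : Set (E × Γ))) :=
    ⟨_, rfl⟩
  have hgen : ∀ x ∈ S, ∀ t ∈ Tall, gen x t ∈ N := by
    intro x hx t ht
    rw [hN_def]
    exact Submodule.subset_span ⟨(x, t), by simp [hx, ht], rfl⟩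
  refine ⟨N, ?_, ?_, ?_⟩
  · -- `M ≤ N` through the unit section
    rw [← hS, Submodule.span_le]
    intro x hx
    have h1 := hDl x R 1
    rw [coact_one, hTall x hx, map_sum] at h1
    have h2 := congrArg (TensorProduct.lid R E) h1
    rw [TensorProduct.lid_tmul, one_smul, map_sum] at h2
    rw [SetLike.mem_coe, h2]
    refine Submodule.sum_mem _ fun t ht => ?_
    rw [VecGrp.Wmap_tmul, TensorProduct.lid_tmul]
    exact N.smul_mem _ (hgen x hx t ht)
  · rw [hN_def]
    exact Submodule.fg_span ((Finset.finite_toSet _).image _)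
  · -- stability
    suffices hst : ∀ j : I, ∀ x ∈ N,
        N.mkQ.baseChange (A j) (coact m (A j) (pts j) x) = 0 by
      intro B _ _ g x hx
      rw [mem_range_iff]
      exact good_of_cover m hcov N x (fun j => hst j x hx) B g
    intro j
    have hmu : ∀ t : Γ, ∃ Y : Γ ⊗[R] A j, ∀ (B : Type u) [CommRing B] [Algebra R B]
        (g : VecGrp.pt R B ⟶ G), (muFam pts hnat j t).c B g =
          VecGrp.Wmap (M := A j) (gs B g) Y := fun t => hglue (A j) (muFam pts hnat j t)
    choose mu hmu using hmu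
    have h2 : N ≤ LinearMap.ker (delta m A pts N j) := by
      rw [hN_def, Submodule.span_le, ← hN_def]
      rintro _ ⟨⟨x₀, t₀⟩, hp, rfl⟩
      have hx₀ : x₀ ∈ S := (Finset.mem_product.mp (Finset.mem_coe.mp hp)).1
      have ht₀ : t₀ ∈ Tall := (Finset.mem_product.mp (Finset.mem_coe.mp hp)).2
      rw [SetLike.mem_coe, LinearMap.mem_ker]
      show N.mkQ.baseChange (A j) (coact m (A j) (pts j) (gen x₀ t₀)) = 0
      have claim : (coact m (A j) (pts j)).lTensor Γ (Dl x₀) =
          ∑ t ∈ Tall, TensorProduct.assoc R Γ (A j) E (mu t ⊗ₜ[R] gen x₀ t) := by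
        rw [← sub_eq_zero]
        apply huniq (A j ⊗[R] E)
        intro B _ _ g
        rw [map_sub, sub_eq_zero]
        apply (TensorProduct.assoc R B (A j) E).symm.injective
        rw [Wmap_lTensor, ← hDl x₀ B g, assoc_coact', hDl x₀, map_sum, map_sum]
        conv_lhs => rw [hTall x₀ hx₀]
        rw [map_sum]
        refine Finset.sum_congr rfl fun t _ => ?_
        rw [Wmap_assoc, ← hmu t B g, VecGrp.Wmap_tmul]
        rfl
      rw [hgen_def, ev_lTensor, claim, map_sum, map_sum]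
      refine Finset.sum_eq_zero fun t ht => ?_
      rw [ev_assoc, LinearMap.baseChange_tmul]
      have h3 : N.mkQ (gen x₀ t) = 0 := (Submodule.Quotient.mk_eq_zero N).mpr (hgen x₀ hx₀ t ht)
      rw [h3, TensorProduct.tmul_zero]
    intro x hx
    exact LinearMap.mem_ker.mp (h2 hx)

end Core

end Groth.Agent.H8.LocFin
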