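import Groth.Agent.Lib.Helper8.LocFin.Alg

/-!
# Local finiteness of `G`-modules: the finite flat affine cover of a flat quasi-compact group scheme
(helper8)
-/

set_option autoImplicit false
universe u
open CategoryTheory MonObj GrpObj AlgebraicGeometry
open scoped TensorProduct

namespace Groth.Agent.H8.LocFin

variable {R : Type u} [CommRing R] (G : Over (Spec (CommRingCat.of R)))

/-- the `R`-algebra structure on `T` induced by `j : Spec T ⟶ G`. -/
@[reducible] noncomputable def algOf {T : CommRingCat.{u}} (j : Spec T ⟶ G.left) : Algebra R T :=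
  RingHom.toAlgebra (Spec.preimage (j ≫ G.hom)).hom

theorem spec_algebraMap {T : CommRingCat.{u}} (j : Spec T ⟶ G.left) :
    Spec.map (CommRingCat.ofHom (@algebraMap R T _ _ (algOf G j))) = j ≫ G.hom := by
  show Spec.map (CommRingCat.ofHom (Spec.preimage (j ≫ G.hom)).hom) = _
  rw [CommRingCat.ofHom_hom, Spec.map_preimage]

/-- `j : Spec T ⟶ G` as a point over `R`. -/
noncomputable def ptOf {T : CommRingCat.{u}} (j : Spec T ⟶ G.left) :
    @VecGrp.pt R _ T _ (algOf G j) ⟶ G :=
  Over.homMk j (spec_algebraMap G j).symm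

theorem flat_algOf [Flat G.hom] {T : CommRingCat.{u}} (j : Spec T ⟶ G.left) [IsOpenImmersion j] :
    @Module.Flat R T _ _ (@Algebra.toModule _ _ _ _ (algOf G j)) := by
  have h2 : Flat (Spec.map (Spec.preimage (j ≫ G.hom))) := by
    rw [Spec.map_preimage]
    infer_instance
  exact Flat.SpecMap_iff.mp h2

variable [GrpObj G]

theorem cov_of_cover {I : Type u} (T : I → CommRingCat.{u}) (j : ∀ i, Spec (T i) ⟶ G.left)
    [∀ i, IsOpenImmersion (j i)] (hj : ∀ z : G.left, ∃ i, z ∈ Set.range (j i)) :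
    @Cov R _ G I (fun i => T i) (fun i => inferInstance) (fun i => algOf G (j i))
      (fun i => ptOf G (j i)) := by
  intro B _ _ g
  obtain ⟨gl, hgl⟩ : ∃ gl : Spec (CommRingCat.of B) ⟶ G.left, gl = g.left := ⟨_, rfl⟩
  refine ⟨{b : B | ∃ i : I, (PrimeSpectrum.basicOpen b : Set (PrimeSpectrum B)) ⊆
    gl ⁻¹' (Set.range (j i))}, ?_, ?_⟩
  · by_contra hne
    obtain ⟨𝔪, hmax, hle⟩ := Ideal.exists_le_maximal _ hne
    obtain ⟨z, hz⟩ : ∃ z : PrimeSpectrum B, z.asIdeal = 𝔪 := ⟨⟨𝔪, hmax.isPrime⟩, rfl⟩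
    obtain ⟨i, hi⟩ := hj (gl z)
    have hopen : IsOpen (gl ⁻¹' (Set.range (j i))) :=
      (IsOpenImmersion.isOpen_range (j i)).preimage gl.continuous
    obtain ⟨v, ⟨b, rfl⟩, hzv, hvsub⟩ :=
      PrimeSpectrum.isTopologicalBasis_basic_opens.exists_subset_of_mem_open
        (show z ∈ gl ⁻¹' (Set.range (j i)) from hi) hopen
    have hb : b ∈ 𝔪 := hle (Ideal.subset_span ⟨i, hvsub⟩)
    rw [← hz] at hb
    exact hzv hb
  · rintro b ⟨i, hsub⟩
    obtain ⟨fb, hfb⟩ : ∃ fb : Spec (CommRingCat.of (Localization.Away b)) ⟶ G.left,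
        fb = Spec.map (CommRingCat.ofHom (algebraMap B (Localization.Away b))) ≫ gl := ⟨_, rfl⟩
    have H' : Set.range fb ⊆ Set.range (j i) := by
      rintro _ ⟨w, rfl⟩
      have hw : (Spec.map (CommRingCat.ofHom (algebraMap B (Localization.Away b)))) w ∈
          (PrimeSpectrum.basicOpen b : Set (PrimeSpectrum B)) := by
        rw [← PrimeSpectrum.localization_away_comap_range (Localization.Away b) b]
        exact ⟨w, rfl⟩
      have h3 := hsub hw
      rw [hfb]
      exact h3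
    obtain ⟨l, hl⟩ : ∃ l : Spec (CommRingCat.of (Localization.Away b)) ⟶ Spec (T i),
        l ≫ j i = fb := ⟨IsOpenImmersion.lift (j i) fb H', IsOpenImmersion.lift_fac _ _ _⟩
    obtain ⟨ψ, hψ⟩ : ∃ ψ : T i ⟶ CommRingCat.of (Localization.Away b), Spec.map ψ = l :=
      ⟨Spec.preimage l, Spec.map_preimage l⟩
    have hcomm : Spec.preimage (j i ≫ G.hom) ≫ ψ =
        CommRingCat.ofHom (algebraMap R (Localization.Away b)) := by
      apply Spec.map_injective
      rw [Spec.map_comp, Spec.map_preimage, hψ, ← Category.assoc, hl, hfb, hgl, Category.assoc,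
        Over.w g]
      show Spec.map _ ≫ Spec.map (CommRingCat.ofHom (algebraMap R B)) = _
      rw [← Spec.map_comp]
      congr 1
    letI : Algebra R (T i) := algOf G (j i)
    let ε : (T i) →ₐ[R] Localization.Away b :=
      { ψ.hom with commutes' := fun r => congrArg (fun f => f.hom r) hcomm }
    refine ⟨i, ε, ?_⟩
    apply Over.OverMorphism.ext
    show Spec.map (CommRingCat.ofHom ε.toRingHom) ≫ j i =
      Spec.map (CommRingCat.ofHom
        (IsScalarTower.toAlgHom R B (Localization.Away b)).toRingHom) ≫ g.left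
    have h5 : CommRingCat.ofHom ε.toRingHom = ψ := rfl
    rw [h5, hψ, hl, hfb, hgl]
    rfl

theorem main [IsNoetherianRing R] [Flat G.hom] [QuasiCompact G.hom]
    {E : Type u} [AddCommGroup E] [Module R E] (m : VecGrp.GMod G E) (M : Submodule R E)
    (hM : M.FG) :
    ∃ N : Submodule R E, M ≤ N ∧ N.FG ∧
      ∀ (B : Type u) [CommRing B] [Algebra R B] (g : VecGrp.pt R B ⟶ G) (x : E), x ∈ N →
        m.ρ B g ((1 : B) ⊗ₜ[R] x) ∈ LinearMap.range (N.subtype.baseChange B) := by
  classical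
  haveI : CompactSpace ((Functor.fromPUnit (Spec (CommRingCat.of R))).obj G.right) := by
    show CompactSpace (Spec (CommRingCat.of R))
    infer_instance
  haveI : CompactSpace G.left := QuasiCompact.compactSpace_of_compactSpace G.hom
  obtain ⟨𝒰, -⟩ : ∃ 𝒰 : G.left.AffineOpenCover, 𝒰 = G.left.affineOpenCover := ⟨_, rfl⟩
  obtain ⟨t, ht⟩ := CompactSpace.elim_nhds_subcover
    (fun x : G.left => Set.range (𝒰.f (𝒰.idx x)))
    (fun x => (IsOpenImmersion.isOpen_range (𝒰.f (𝒰.idx x))).mem_nhds (𝒰.covers x))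
  have hj : ∀ z : G.left, ∃ i : (t : Set G.left),
      z ∈ Set.range (𝒰.f (𝒰.idx (i : G.left))) := by
    intro z
    have hz : z ∈ ⋃ x ∈ t, Set.range (𝒰.f (𝒰.idx x)) := by
      rw [ht]
      trivial
    simp only [Set.mem_iUnion] at hz
    obtain ⟨x, hx, hzx⟩ := hz
    exact ⟨⟨x, hx⟩, hzx⟩
  have hcov := cov_of_cover G (I := (t : Set G.left)) (fun i => 𝒰.X (𝒰.idx (i : G.left)))
    (fun i => 𝒰.f (𝒰.idx (i : G.left))) hj
  exact @main_alg R _ G _ E _ _ m (t : Set G.left)
    (fun i => 𝒰.X (𝒰.idx (i : G.left))) (fun i => inferInstance)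
    (fun i => algOf G (𝒰.f (𝒰.idx (i : G.left)))) (fun i => ptOf G (𝒰.f (𝒰.idx (i : G.left))))
    inferInstance _ (fun i => flat_algOf G (𝒰.f (𝒰.idx (i : G.left)))) hcov M hM

end Groth.Agent.H8.LocFin
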