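import Groth.Agent.Lib.Helper8.LocFin.Alg2
import Groth.Agent.Lib.Helper8.LocFin.Cover

/-!
# Gluing natural families of sections of `O_G ⊗ F` on a quasi-compact quasi-separated `G`, `F` flat
(helper8)
-/

set_option autoImplicit false
universe u
open CategoryTheory MonObj GrpObj AlgebraicGeometry Limits
open scoped TensorProduct

namespace Groth.Agent.H8.LocFin

theorem exists_fin_aff (Y : Scheme.{u}) [CompactSpace Y] :
    ∃ (I : Type u) (_ : Fintype I) (T : I → CommRingCat.{u}) (j : ∀ i, Spec (T i) ⟶ Y),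
      (∀ i, IsOpenImmersion (j i)) ∧ ∀ z : Y, ∃ i, z ∈ Set.range (j i) := by
  classical
  obtain ⟨𝒰, -⟩ : ∃ 𝒰 : Y.AffineOpenCover, 𝒰 = Y.affineOpenCover := ⟨_, rfl⟩
  obtain ⟨t, ht⟩ := CompactSpace.elim_nhds_subcover
    (fun x : Y => Set.range (𝒰.f (𝒰.idx x)))
    (fun x => (IsOpenImmersion.isOpen_range (𝒰.f (𝒰.idx x))).mem_nhds (𝒰.covers x))
  refine ⟨(t : Set Y), inferInstance, fun i => 𝒰.X (𝒰.idx (i : Y)),
    fun i => 𝒰.f (𝒰.idx (i : Y)), fun i => inferInstance, ?_⟩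
  intro z
  have hz : z ∈ ⋃ x ∈ t, Set.range (𝒰.f (𝒰.idx x)) := by
    rw [ht]
    trivial
  simp only [Set.mem_iUnion] at hz
  obtain ⟨x, hx, hzx⟩ := hz
  exact ⟨⟨x, hx⟩, hzx⟩

section Scalar

variable {X : Scheme.{u}} {I : Type u} (T : I → CommRingCat.{u}) (j : ∀ i, Spec (T i) ⟶ X)
  [∀ i, IsOpenImmersion (j i)] (hj : ∀ z : X, ∃ i, z ∈ Set.range (j i))
  {W : I → I → Type u} (C : ∀ i i', W i i' → CommRingCat.{u})
  (k : ∀ i i' (w : W i i'), Spec (C i i' w) ⟶ pullback (j i) (j i'))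
  [∀ i i' w, IsOpenImmersion (k i i' w)]
  (hk : ∀ i i' (z : ↥(pullback (j i) (j i'))), ∃ w, z ∈ Set.range (k i i' w))

/-- restriction of global functions to the chart `i`. -/
noncomputable def resT (i : I) : Γ(X, ⊤) ⟶ T i := (j i).appTop ≫ (Scheme.ΓSpecIso (T i)).hom

theorem res_fac {T₁ C₁ : CommRingCat.{u}} (j₁ : Spec T₁ ⟶ X) (q : Spec C₁ ⟶ X) (ψ : T₁ ⟶ C₁)
    (hl : Spec.map ψ ≫ j₁ = q) :
    (j₁.appTop ≫ (Scheme.ΓSpecIso T₁).hom) ≫ ψ = q.appTop ≫ (Scheme.ΓSpecIso C₁).hom := by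
  rw [← hl, Scheme.Hom.comp_appTop, Category.assoc, Category.assoc, Scheme.ΓSpecIso_naturality]

include hj in
theorem scalar_inj (s : Γ(X, ⊤)) (h : ∀ i, (resT T j i).hom s = 0) : s = 0 := by
  let 𝒰 : X.OpenCover := Scheme.Cover.mkOfCovers I (fun i => Spec (T i)) j
    (fun x => by obtain ⟨i, y, hy⟩ := hj x; exact ⟨i, y, hy⟩)
  apply Scheme.zero_of_zero_cover s 𝒰
  intro i
  show (j i).appTop.hom s = 0
  have h1 := h i
  exact (ConcreteCategory.bijective_of_isIso (Scheme.ΓSpecIso (T i)).hom).injective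
    (by rw [map_zero]; exact h1)

include hj hk in
theorem scalar_glue (a : ∀ i, T i)
    (ha : ∀ i i' (w : W i i'),
      (Spec.preimage (k i i' w ≫ pullback.fst (j i) (j i'))).hom (a i) =
        (Spec.preimage (k i i' w ≫ pullback.snd (j i) (j i'))).hom (a i')) :
    ∃ s : Γ(X, ⊤), ∀ i, (resT T j i).hom s = a i := by
  let 𝒰 : X.OpenCover := Scheme.Cover.mkOfCovers I (fun i => Spec (T i)) j
    (fun x => by obtain ⟨i, y, hy⟩ := hj x; exact ⟨i, y, hy⟩)
  obtain ⟨mm, hmm⟩ : ∃ mm : ∀ i, Spec (T i) ⟶ Spec (CommRingCat.of (Polynomial Γ(X, ⊤))),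
      ∀ i, mm i = Spec.map (CommRingCat.ofHom
        (Polynomial.eval₂RingHom (resT T j i).hom (a i))) := ⟨_, fun _ => rfl⟩
  have compat : ∀ i i', pullback.fst (j i) (j i') ≫ mm i = pullback.snd (j i) (j i') ≫ mm i' := by
    intro i i'
    let 𝒱 : (pullback (j i) (j i')).OpenCover :=
      Scheme.Cover.mkOfCovers (W i i') (fun w => Spec (C i i' w)) (k i i')
        (fun z => by obtain ⟨w, y, hy⟩ := hk i i' z; exact ⟨w, y, hy⟩)
    refine Scheme.Cover.hom_ext 𝒱 _ _ fun w => ?_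
    show k i i' w ≫ pullback.fst (j i) (j i') ≫ mm i =
      k i i' w ≫ pullback.snd (j i) (j i') ≫ mm i'
    obtain ⟨p₁, hp₁d⟩ : ∃ p₁ : T i ⟶ C i i' w,
        p₁ = Spec.preimage (k i i' w ≫ pullback.fst (j i) (j i')) := ⟨_, rfl⟩
    obtain ⟨p₂, hp₂d⟩ : ∃ p₂ : T i' ⟶ C i i' w,
        p₂ = Spec.preimage (k i i' w ≫ pullback.snd (j i) (j i')) := ⟨_, rfl⟩
    have hp₁ : Spec.map p₁ = k i i' w ≫ pullback.fst (j i) (j i') := by
      rw [hp₁d, Spec.map_preimage]
    have hp₂ : Spec.map p₂ = k i i' w ≫ pullback.snd (j i) (j i') := by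
      rw [hp₂d, Spec.map_preimage]
    have ha' := ha i i' w
    rw [← hp₁d, ← hp₂d] at ha'
    rw [← Category.assoc, ← Category.assoc, ← hp₁, ← hp₂, hmm, hmm, ← Spec.map_comp,
      ← Spec.map_comp]
    congr 1
    apply CommRingCat.hom_ext
    apply Polynomial.ringHom_ext
    · intro c
      simp only [CommRingCat.hom_comp, CommRingCat.hom_ofHom, RingHom.comp_apply,
        Polynomial.coe_eval₂RingHom, Polynomial.eval₂_C]
      have e1 := res_fac (j i) (k i i' w ≫ pullback.fst (j i) (j i') ≫ j i) p₁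
        (by rw [hp₁, Category.assoc])
      have e2 := res_fac (j i') (k i i' w ≫ pullback.fst (j i) (j i') ≫ j i) p₂
        (by rw [hp₂, Category.assoc, pullback.condition])
      exact congrArg (fun f => f.hom c) (e1.trans e2.symm)
    · simp only [CommRingCat.hom_comp, CommRingCat.hom_ofHom, RingHom.comp_apply,
        Polynomial.coe_eval₂RingHom, Polynomial.eval₂_X]
      exact ha'
  obtain ⟨F, hF⟩ : ∃ F : X ⟶ Spec (CommRingCat.of (Polynomial Γ(X, ⊤))), ∀ i, j i ≫ F = mm i :=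
    ⟨𝒰.glueMorphisms mm compat, fun i => Scheme.Cover.ι_glueMorphisms 𝒰 mm compat i⟩
  refine ⟨F.appTop.hom ((Scheme.ΓSpecIso (CommRingCat.of (Polynomial Γ(X, ⊤)))).inv.hom
    Polynomial.X), fun i => ?_⟩
  have h1 : F.appTop ≫ (j i).appTop = (mm i).appTop := by
    rw [← Scheme.Hom.comp_appTop, hF]
  have h4 := congrArg (fun f => f.hom Polynomial.X) (Scheme.ΓSpecIso_inv_naturality
    (CommRingCat.ofHom (Polynomial.eval₂RingHom (resT T j i).hom (a i))))
  simp only [CommRingCat.hom_comp, RingHom.comp_apply, CommRingCat.hom_ofHom,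
    Polynomial.coe_eval₂RingHom, Polynomial.eval₂_X] at h4
  have h5 : (Scheme.ΓSpecIso (T i)).hom.hom ((Scheme.ΓSpecIso (T i)).inv.hom (a i)) = a i := by
    simp
  have h3 : (resT T j i).hom (F.appTop.hom ((Scheme.ΓSpecIso
      (CommRingCat.of (Polynomial Γ(X, ⊤)))).inv.hom Polynomial.X)) =
      ((F.appTop ≫ (j i).appTop) ≫ (Scheme.ΓSpecIso (T i)).hom).hom
        ((Scheme.ΓSpecIso (CommRingCat.of (Polynomial Γ(X, ⊤)))).inv.hom Polynomial.X) := rfl
  rw [h3, h1, hmm]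
  exact (congrArg (Scheme.ΓSpecIso (T i)).hom.hom h4.symm).trans h5

end Scalar

section TensorExact

variable {R : Type u} [CommRing R]

theorem tensor_exact_pi (F : Type u) [AddCommGroup F] [Module R F] [Module.Flat R F]
    {Γ' : Type u} [AddCommGroup Γ'] [Module R Γ'] {I : Type u} [Fintype I] {T : I → Type u}
    [∀ i, AddCommGroup (T i)] [∀ i, Module R (T i)]
    {S : Type u} [Fintype S] {C : S → Type u} [∀ σ, AddCommGroup (C σ)] [∀ σ, Module R (C σ)]
    (r : ∀ i, Γ' →ₗ[R] T i) (i₁ i₂ : S → I) (e₁ : ∀ σ, T (i₁ σ) →ₗ[R] C σ)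
    (e₂ : ∀ σ, T (i₂ σ) →ₗ[R] C σ)
    (hinj : ∀ s : Γ', (∀ i, r i s = 0) → s = 0)
    (hcomp : ∀ s σ, e₁ σ (r (i₁ σ) s) = e₂ σ (r (i₂ σ) s))
    (hex : ∀ a : ∀ i, T i, (∀ σ, e₁ σ (a (i₁ σ)) = e₂ σ (a (i₂ σ))) → ∃ s, ∀ i, r i s = a i) :
    (∀ Y : Γ' ⊗[R] F, (∀ i, (r i).rTensor F Y = 0) → Y = 0) ∧
    (∀ y : ∀ i, T i ⊗[R] F,
      (∀ σ, (e₁ σ).rTensor F (y (i₁ σ)) = (e₂ σ).rTensor F (y (i₂ σ))) →
        ∃ Y : Γ' ⊗[R] F, ∀ i, (r i).rTensor F Y = y i) := by
  classical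
  obtain ⟨rr, hrr⟩ : ∃ rr : Γ' →ₗ[R] ∀ i, T i, rr = LinearMap.pi r := ⟨_, rfl⟩
  obtain ⟨dd, hdd⟩ : ∃ dd : (∀ i, T i) →ₗ[R] ∀ σ, C σ, dd = LinearMap.pi fun σ =>
      e₁ σ ∘ₗ LinearMap.proj (i₁ σ) - e₂ σ ∘ₗ LinearMap.proj (i₂ σ) := ⟨_, rfl⟩
  have hrr_inj : Function.Injective rr := by
    rw [← LinearMap.ker_eq_bot, LinearMap.ker_eq_bot']
    intro s hs
    apply hinj
    intro i
    rw [hrr] at hs
    exact congrFun hs i
  have hexact : Function.Exact rr dd := by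
    intro a
    constructor
    · intro h
      have h' : ∀ σ, e₁ σ (a (i₁ σ)) = e₂ σ (a (i₂ σ)) := by
        intro σ
        have := congrFun h σ
        rw [hdd] at this
        simpa [sub_eq_zero] using this
      obtain ⟨s, hs⟩ := hex a h'
      exact ⟨s, by rw [hrr]; funext i; exact hs i⟩
    · rintro ⟨s, rfl⟩
      rw [hdd, hrr]
      funext σ
      simp [hcomp s σ]
  have hexF := Module.Flat.rTensor_exact F hexact
  have hinjF := Module.Flat.rTensor_preserves_injective_linearMap (M := F) rr hrr_inj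
  have hpi_r : ∀ (Y : Γ' ⊗[R] F) (i : I),
      TensorProduct.piLeft R F T (rr.rTensor F Y) i = (r i).rTensor F Y := by
    intro Y i
    induction Y using TensorProduct.induction_on with
    | zero => simp
    | tmul c f => rw [hrr]; simp
    | add Y Y' hY hY' => simp only [map_add, Pi.add_apply, hY, hY']
  have hpi_d : ∀ (y : (∀ i, T i) ⊗[R] F) (σ : S),
      TensorProduct.piLeft R F C (dd.rTensor F y) σ =
        (e₁ σ).rTensor F (TensorProduct.piLeft R F T y (i₁ σ)) -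
          (e₂ σ).rTensor F (TensorProduct.piLeft R F T y (i₂ σ)) := by
    intro y σ
    induction y using TensorProduct.induction_on with
    | zero => simp
    | tmul c f => rw [hdd]; simp [TensorProduct.sub_tmul]
    | add Y Y' hY hY' => simp only [map_add, Pi.add_apply, hY, hY']; abel
  constructor
  · intro Y hY
    apply hinjF
    rw [map_zero]
    apply (TensorProduct.piLeft R F T).injective
    rw [map_zero]
    funext i
    rw [hpi_r, hY i]
    rfl
  · intro y hy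
    have h0 : dd.rTensor F ((TensorProduct.piLeft R F T).symm y) = 0 := by
      apply (TensorProduct.piLeft R F C).injective
      rw [map_zero]
      funext σ
      rw [hpi_d, LinearEquiv.apply_symm_apply, hy σ, sub_self]
      rfl
    obtain ⟨Y, hY⟩ := (hexF _).mp h0
    refine ⟨Y, fun i => ?_⟩
    rw [← hpi_r, hY, LinearEquiv.apply_symm_apply]

end TensorExact

section Group

variable {R : Type u} [CommRing R] (G : Over (Spec (CommRingCat.of R)))

/-- the `R`-algebra structure on the global functions of `G`. -/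
@[reducible] noncomputable def algΓ : Algebra R Γ(G.left, ⊤) :=
  (((Scheme.ΓSpecIso (CommRingCat.of R)).inv ≫ G.hom.appTop).hom).toAlgebra

theorem gstar_commutes (B : Type u) [CommRing B] [Algebra R B] (g : VecGrp.pt R B ⟶ G) (r : R) :
    (g.left.appTop ≫ (Scheme.ΓSpecIso (CommRingCat.of B)).hom).hom
      (((Scheme.ΓSpecIso (CommRingCat.of R)).inv ≫ G.hom.appTop).hom r) = algebraMap R B r := by
  have h1 : g.left ≫ G.hom = Spec.map (CommRingCat.ofHom (algebraMap R B)) := Over.w g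
  have h2 : ((Scheme.ΓSpecIso (CommRingCat.of R)).inv ≫ G.hom.appTop) ≫
      (g.left.appTop ≫ (Scheme.ΓSpecIso (CommRingCat.of B)).hom) =
      CommRingCat.ofHom (algebraMap R B) := by
    rw [Category.assoc, ← Category.assoc G.hom.appTop, ← Scheme.Hom.comp_appTop, h1,
      Scheme.ΓSpecIso_naturality, Iso.inv_hom_id_assoc]
  exact congrArg (fun f => f.hom r) h2

/-- pull-back of global functions along a point. -/
noncomputable def gstar (B : Type u) [CommRing B] [Algebra R B] (g : VecGrp.pt R B ⟶ G) :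
    @AlgHom R Γ(G.left, ⊤) B _ _ _ (algΓ G) _ :=
  letI := algΓ G
  { (g.left.appTop ≫ (Scheme.ΓSpecIso (CommRingCat.of B)).hom).hom with
    commutes' := gstar_commutes G B g }

theorem gstar_nat : @GsNat R _ G Γ(G.left, ⊤) _ (algΓ G) (gstar G) := by
  letI := algΓ G
  intro B B' _ _ _ _ φ g
  apply AlgHom.ext
  intro x
  show ((VecGrp.ptMap φ ≫ g).left.appTop ≫ (Scheme.ΓSpecIso (CommRingCat.of B')).hom).hom x =
    φ ((g.left.appTop ≫ (Scheme.ΓSpecIso (CommRingCat.of B)).hom).hom x)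
  have h1 : (VecGrp.ptMap φ ≫ g).left = Spec.map (CommRingCat.ofHom φ.toRingHom) ≫ g.left := rfl
  have h2 : (VecGrp.ptMap φ ≫ g).left.appTop ≫ (Scheme.ΓSpecIso (CommRingCat.of B')).hom =
      (g.left.appTop ≫ (Scheme.ΓSpecIso (CommRingCat.of B)).hom) ≫
        CommRingCat.ofHom φ.toRingHom := by
    rw [h1, Scheme.Hom.comp_appTop, Category.assoc, Scheme.ΓSpecIso_naturality, Category.assoc]
  exact congrArg (fun f => f.hom x) h2

theorem exists_algHom_of_fac {T₁ C₁ : CommRingCat.{u}} (j₁ : Spec T₁ ⟶ G.left)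
    (q : Spec C₁ ⟶ G.left) (ψ : T₁ ⟶ C₁) (hl : Spec.map ψ ≫ j₁ = q) :
    letI := algOf G j₁
    letI := algOf G q
    ∃ ε : T₁ →ₐ[R] C₁, (∀ t, ε t = ψ.hom t) ∧ VecGrp.ptMap ε ≫ ptOf G j₁ = ptOf G q := by
  letI := algOf G j₁
  letI := algOf G q
  have hcomm : Spec.preimage (j₁ ≫ G.hom) ≫ ψ = Spec.preimage (q ≫ G.hom) := by
    apply Spec.map_injective
    rw [Spec.map_comp, Spec.map_preimage, Spec.map_preimage, ← Category.assoc, hl]
  refine ⟨{ ψ.hom with commutes' := fun r => congrArg (fun f => f.hom r) hcomm },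
    fun _ => rfl, ?_⟩
  apply Over.OverMorphism.ext
  exact hl

/-- the value of a natural family at `j₁ : Spec T₁ ⟶ G`. -/
noncomputable def yOf {F : Type u} [AddCommGroup F] [Module R F] (y : NatFam G F)
    {T₁ : CommRingCat.{u}} (j₁ : Spec T₁ ⟶ G.left) :
    @TensorProduct R _ T₁ F _ _ (@Algebra.toModule _ _ _ _ (algOf G j₁)) _ :=
  @NatFam.c R _ G F _ _ y T₁ _ (algOf G j₁) (ptOf G j₁)

theorem Wmap_comp {B B' B'' : Type u} [CommRing B] [Algebra R B] [CommRing B'] [Algebra R B']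
    [CommRing B''] [Algebra R B''] {F : Type u} [AddCommGroup F] [Module R F]
    (φ : B →ₐ[R] B') (ψ : B' →ₐ[R] B'') (z : B ⊗[R] F) :
    VecGrp.Wmap (M := F) (ψ.comp φ) z = VecGrp.Wmap (M := F) ψ (VecGrp.Wmap (M := F) φ z) := by
  induction z using TensorProduct.induction_on with
  | zero => simp
  | tmul c f => rfl
  | add z w hz hw => simp only [map_add, hz, hw]

theorem gsGlueUniq [GrpObj G] [QuasiCompact G.hom] [QuasiSeparated G.hom] :
    @GsGlue R _ G Γ(G.left, ⊤) _ (algΓ G) (gstar G) ∧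
      @GsUniq R _ G Γ(G.left, ⊤) _ (algΓ G) (gstar G) := by
  classical
  letI := algΓ G
  haveI : CompactSpace ((Functor.fromPUnit (Spec (CommRingCat.of R))).obj G.right) := by
    show CompactSpace (Spec (CommRingCat.of R))
    infer_instance
  haveI : QuasiSeparatedSpace ((Functor.fromPUnit (Spec (CommRingCat.of R))).obj G.right) := by
    show QuasiSeparatedSpace (Spec (CommRingCat.of R))
    infer_instance
  haveI : CompactSpace G.left := QuasiCompact.compactSpace_of_compactSpace G.hom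
  haveI : QuasiSeparatedSpace G.left := quasiSeparatedSpace_of_quasiSeparated G.hom
  obtain ⟨I, fI, T, j, oj, hj⟩ := exists_fin_aff G.left
  haveI := fI
  haveI := oj
  have hW : ∀ i i' : I, ∃ (W : Type u) (_ : Fintype W) (C : W → CommRingCat.{u})
      (k : ∀ w, Spec (C w) ⟶ pullback (j i) (j i')),
      (∀ w, IsOpenImmersion (k w)) ∧ ∀ z : ↥(pullback (j i) (j i')), ∃ w, z ∈ Set.range (k w) := by
    intro i i'
    haveI : CompactSpace ↥(pullback (j i) (j i')) :=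
      QuasiCompact.compactSpace_of_compactSpace (pullback.fst (j i) (j i'))
    exact exists_fin_aff _
  choose W fW C k ok hk using hW
  haveI := fW
  haveI := ok
  obtain ⟨q, hq⟩ : ∃ q : ∀ σ : (Sigma fun p : I × I => W p.1 p.2),
      Spec (C σ.1.1 σ.1.2 σ.2) ⟶ G.left,
      ∀ σ, q σ = k σ.1.1 σ.1.2 σ.2 ≫ pullback.fst (j σ.1.1) (j σ.1.2) ≫ j σ.1.1 :=
    ⟨_, fun _ => rfl⟩
  letI iT : ∀ i, Algebra R (T i) := fun i => algOf G (j i)
  letI iC : ∀ σ : (Sigma fun p : I × I => W p.1 p.2), Algebra R (C σ.1.1 σ.1.2 σ.2) :=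
    fun σ => algOf G (q σ)
  have h1 : ∀ σ : (Sigma fun p : I × I => W p.1 p.2),
      ∃ ε : T σ.1.1 →ₐ[R] C σ.1.1 σ.1.2 σ.2,
        (∀ t, ε t = (Spec.preimage (k σ.1.1 σ.1.2 σ.2 ≫
          pullback.fst (j σ.1.1) (j σ.1.2))).hom t) ∧
        VecGrp.ptMap ε ≫ ptOf G (j σ.1.1) = ptOf G (q σ) := by
    intro σ
    exact exists_algHom_of_fac G (j σ.1.1) (q σ)
      (Spec.preimage (k σ.1.1 σ.1.2 σ.2 ≫ pullback.fst (j σ.1.1) (j σ.1.2)))
      (by rw [Spec.map_preimage, hq, Category.assoc])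
  have h2 : ∀ σ : (Sigma fun p : I × I => W p.1 p.2),
      ∃ ε : T σ.1.2 →ₐ[R] C σ.1.1 σ.1.2 σ.2,
        (∀ t, ε t = (Spec.preimage (k σ.1.1 σ.1.2 σ.2 ≫
          pullback.snd (j σ.1.1) (j σ.1.2))).hom t) ∧
        VecGrp.ptMap ε ≫ ptOf G (j σ.1.2) = ptOf G (q σ) := by
    intro σ
    exact exists_algHom_of_fac G (j σ.1.2) (q σ)
      (Spec.preimage (k σ.1.1 σ.1.2 σ.2 ≫ pullback.snd (j σ.1.1) (j σ.1.2)))
      (by rw [Spec.map_preimage, hq, Category.assoc, pullback.condition])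
  choose ε₁ hε₁a hε₁b using h1
  choose ε₂ hε₂a hε₂b using h2
  obtain ⟨r, hr⟩ : ∃ r : ∀ i, Γ(G.left, ⊤) →ₗ[R] T i,
      ∀ i, r i = (gstar G (T i) (ptOf G (j i))).toLinearMap := ⟨_, fun _ => rfl⟩
  have hinj : ∀ s : Γ(G.left, ⊤), (∀ i, r i s = 0) → s = 0 := by
    intro s h
    refine scalar_inj T j hj s (fun i => ?_)
    have := h i
    rw [hr] at this
    exact this
  have hcomp : ∀ (s : Γ(G.left, ⊤)) (σ : (Sigma fun p : I × I => W p.1 p.2)),
      (ε₁ σ).toLinearMap (r σ.1.1 s) = (ε₂ σ).toLinearMap (r σ.1.2 s) := by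
    intro s σ
    have e1 : (ε₁ σ).comp (gstar G (T σ.1.1) (ptOf G (j σ.1.1))) =
        gstar G (C σ.1.1 σ.1.2 σ.2) (ptOf G (q σ)) := by
      rw [← gstar_nat G (ε₁ σ) (ptOf G (j σ.1.1)), hε₁b σ]
    have e2 : (ε₂ σ).comp (gstar G (T σ.1.2) (ptOf G (j σ.1.2))) =
        gstar G (C σ.1.1 σ.1.2 σ.2) (ptOf G (q σ)) := by
      rw [← gstar_nat G (ε₂ σ) (ptOf G (j σ.1.2)), hε₂b σ]
    rw [hr, hr]
    exact (congrArg (fun f => f s) e1).trans (congrArg (fun f => f s) e2).symm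
  have hex : ∀ a : ∀ i, T i,
      (∀ σ : (Sigma fun p : I × I => W p.1 p.2),
        (ε₁ σ).toLinearMap (a σ.1.1) = (ε₂ σ).toLinearMap (a σ.1.2)) →
        ∃ s : Γ(G.left, ⊤), ∀ i, r i s = a i := by
    intro a h
    obtain ⟨s, hs⟩ := scalar_glue T j hj C k hk a (fun i i' w => by
      have h3 := h ⟨(i, i'), w⟩
      rw [AlgHom.toLinearMap_apply, AlgHom.toLinearMap_apply, hε₁a, hε₂a] at h3
      exact h3)
    refine ⟨s, fun i => ?_⟩
    rw [hr]
    exact hs i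
  have key : ∀ (F : Type u) [AddCommGroup F] [Module R F] [Module.Flat R F],
      (∀ Y : Γ(G.left, ⊤) ⊗[R] F, (∀ i, (r i).rTensor F Y = 0) → Y = 0) ∧
      (∀ y : ∀ i, (T i) ⊗[R] F,
        (∀ σ : (Sigma fun p : I × I => W p.1 p.2),
          ((ε₁ σ).toLinearMap).rTensor F (y σ.1.1) = ((ε₂ σ).toLinearMap).rTensor F (y σ.1.2)) →
          ∃ Y : Γ(G.left, ⊤) ⊗[R] F, ∀ i, (r i).rTensor F Y = y i) := by
    intro F _ _ _
    exact tensor_exact_pi F (T := fun i => (T i : Type u))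
      (C := fun σ : (Sigma fun p : I × I => W p.1 p.2) => (C σ.1.1 σ.1.2 σ.2 : Type u))
      r (fun σ => σ.1.1) (fun σ => σ.1.2) (fun σ => (ε₁ σ).toLinearMap)
      (fun σ => (ε₂ σ).toLinearMap) hinj hcomp hex
  constructor
  · intro F _ _ _ y
    obtain ⟨Y, hY⟩ := (key F).2 (fun i => yOf G y (j i)) (by
      intro σ
      have e1 := y.nat (ε₁ σ) (ptOf G (j σ.1.1))
      have e2 := y.nat (ε₂ σ) (ptOf G (j σ.1.2))
      rw [hε₁b σ] at e1
      rw [hε₂b σ] at e2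
      exact e1.trans e2.symm)
    refine ⟨Y, ?_⟩
    intro B _ _ g
    obtain ⟨s, hs, hε⟩ := cov_of_cover G T j hj B g
    rw [← sub_eq_zero]
    apply eq_zero_of_local F s hs
    intro b hb
    obtain ⟨i, ε, hpt⟩ := hε b hb
    rw [map_sub, sub_eq_zero, y.nat, ← Wmap_comp, ← gstar_nat G, ← hpt, gstar_nat G, Wmap_comp,
      ← y.nat]
    congr 1
    have := hY i
    rw [hr] at this
    exact this.symm
  · intro F _ _ _ Y hY
    refine (key F).1 Y (fun i => ?_)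
    rw [hr]
    exact hY (T i) (ptOf G (j i))

end Group

end Groth.Agent.H8.LocFin
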