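import Groth.Agent.Lib.Helper8.LocFin.Glue

/-!
# Local finiteness of flat `G`-modules when `O(G)` is projective (helper8)
-/

set_option autoImplicit false
universe u
open CategoryTheory MonObj GrpObj AlgebraicGeometry Limits
open scoped TensorProduct

namespace Groth.Agent.H8.LocFin

variable {R : Type u} [CommRing R] (G : Over (Spec (CommRingCat.of R))) [GrpObj G]

theorem main2 [Flat G.hom] [QuasiCompact G.hom] [QuasiSeparated G.hom]
    (hA : @Module.Projective R _ Γ(G.left, ⊤) _ (@Algebra.toModule _ _ _ _ (algΓ G)))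
    {E : Type u} [AddCommGroup E] [Module R E] [Module.Flat R E] (m : VecGrp.GMod G E)
    (M : Submodule R E) (hM : M.FG) :
    ∃ N : Submodule R E, M ≤ N ∧ N.FG ∧
      ∀ (B : Type u) [CommRing B] [Algebra R B] (g : VecGrp.pt R B ⟶ G) (x : E), x ∈ N →
        m.ρ B g ((1 : B) ⊗ₜ[R] x) ∈ LinearMap.range (N.subtype.baseChange B) := by
  classical
  haveI : CompactSpace ((Functor.fromPUnit (Spec (CommRingCat.of R))).obj G.right) := by
    show CompactSpace (Spec (CommRingCat.of R))
    infer_instance
  haveI : CompactSpace G.left := QuasiCompact.compactSpace_of_compactSpace G.hom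
  obtain ⟨I, fI, T, j, oj, hj⟩ := exists_fin_aff G.left
  haveI := fI
  haveI := oj
  have hcov := cov_of_cover G T j hj
  obtain ⟨hglue, huniq⟩ := gsGlueUniq G
  exact @main_alg2 R _ G _ E _ _ m Γ(G.left, ⊤) _ (algΓ G) (gstar G) I (fun i => T i)
    (fun i => inferInstance) (fun i => algOf G (j i)) (fun i => ptOf G (j i)) hA inferInstance fI
    (fun i => flat_algOf G (j i)) hcov (gstar_nat G) hglue huniq M hM

end Groth.Agent.H8.LocFin
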